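import Mathlib
import Cfsg.Prelude.Def_Blocks
import Cfsg.Agent.Lib.Helper25.Codegree

set_option autoImplicit false

/-! S4538 leaves [Q1], [Q2]: blocks of defect zero and members of defect zero. -/

namespace Cfsg.Agent.Lib.Helper24.SLB

theorem charDegree_pos_of_irr {G : Type*} [Group G] [Finite G] (χ : Cfsg.IrrCharacter G) :
    0 < Cfsg.charDegree (χ : G → ℂ) := by
  have h := Cfsg.Agent.Lib.Helper25.charDegree_dvd_card χ.2
  rcases Nat.eq_zero_or_pos (Cfsg.charDegree (χ : G → ℂ)) with h0 | h0
  · rw [h0] at h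
    have := Nat.eq_zero_of_zero_dvd h
    exact absurd this Nat.card_pos.ne'
  · exact h0

/-- **[Q1]** in a block of defect zero every member has defect zero -/
theorem not_dvd_of_blockDefect_zero {G : Type*} [Group G] [Finite G] (p : ℕ) [Fact p.Prime]
    (B : Set (Cfsg.IrrCharacter G)) (h0 : Cfsg.blockDefect p B = 0) (χ : Cfsg.IrrCharacter G)
    (hχ : χ ∈ B) : ¬ p ∣ Nat.card G / Cfsg.charDegree (χ : G → ℂ) := by
  have hp : p.Prime := Fact.out
  have hdvd := Cfsg.Agent.Lib.Helper25.charDegree_dvd_card χ.2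
  have hpos := charDegree_pos_of_irr χ
  unfold Cfsg.blockDefect at h0
  have h1 : sInf ((fun χ : Cfsg.IrrCharacter G => (Cfsg.charDegree (χ : G → ℂ)).factorization p) '' B)
      ≤ (Cfsg.charDegree (χ : G → ℂ)).factorization p := Nat.sInf_le ⟨χ, hχ, rfl⟩
  have h2 : (Nat.card G).factorization p ≤ (Cfsg.charDegree (χ : G → ℂ)).factorization p := by omega
  obtain ⟨m, hm⟩ := hdvd
  have hm0 : m ≠ 0 := by
    intro h
    rw [h, mul_zero] at hm
    exact Nat.card_pos.ne' hm
  rw [hm, Nat.mul_div_cancel_left _ hpos]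
  intro hpm
  have h3 : (Nat.card G).factorization p =
      (Cfsg.charDegree (χ : G → ℂ)).factorization p + m.factorization p := by
    rw [hm, Nat.factorization_mul hpos.ne' hm0]
    rfl
  have h4 : 0 < m.factorization p := hp.factorization_pos_of_dvd hm0 hpm
  omega

/-- **[Q2]** the block `{χ}` of a character of defect zero has defect zero -/
theorem blockDefect_singleton_zero {G : Type*} [Group G] [Finite G] (p : ℕ) [Fact p.Prime]
    (χ : Cfsg.IrrCharacter G) (h : ¬ p ∣ Nat.card G / Cfsg.charDegree (χ : G → ℂ)) :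
    Cfsg.blockDefect p ({χ} : Set (Cfsg.IrrCharacter G)) = 0 := by
  have hp : p.Prime := Fact.out
  have hdvd := Cfsg.Agent.Lib.Helper25.charDegree_dvd_card χ.2
  have hpos := charDegree_pos_of_irr χ
  unfold Cfsg.blockDefect
  rw [Set.image_singleton, csInf_singleton]
  obtain ⟨m, hm⟩ := hdvd
  have hm0 : m ≠ 0 := by
    intro h'
    rw [h', mul_zero] at hm
    exact Nat.card_pos.ne' hm
  rw [hm, Nat.mul_div_cancel_left _ hpos] at h
  have h3 : (Nat.card G).factorization p =
      (Cfsg.charDegree (χ : G → ℂ)).factorization p + m.factorization p := by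
    rw [hm, Nat.factorization_mul hpos.ne' hm0]
    rfl
  have h4 : m.factorization p = 0 := Nat.factorization_eq_zero_of_not_dvd h
  omega

end Cfsg.Agent.Lib.Helper24.SLB
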