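import Mathlib
import Cfsg.Prelude.Def_LinearParabolics
import Cfsg.Agent.Lib.Helper25.SLCC.Defs

set_option autoImplicit false

/-! Shared vocabulary for the S4538 / S2440 farm (blocks of `SL_n(q)` in the defining
characteristic): the standard Borel subgroup `Bsl`, its unipotent radical `Usl`, the diagonal
torus `Tsl`, the standard parabolic subgroups `Psl a`, the simple root elements `xs k hk a`
and the simple reflection representatives `ns k hk`. -/

namespace Cfsg.Agent.Lib.Helper24.SLB

open Matrix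

variable (n : ℕ) (F : Type*) [Field F]

/-- upper triangular matrices of `SL_n(F)` -/
def Bsl : Subgroup (SpecialLinearGroup (Fin n) F) :=
  (Cfsg.upperTriangularGL n F).comap SpecialLinearGroup.toGL

/-- the standard parabolic subgroup of `SL_n(F)` of the composition `a` -/
def Psl (a : Fin n → ℕ) : Subgroup (SpecialLinearGroup (Fin n) F) :=
  (Cfsg.parabolicGL n F a).comap SpecialLinearGroup.toGL

variable {n F}

theorem mem_Bsl {g : SpecialLinearGroup (Fin n) F} :
    g ∈ Bsl n F ↔ (g : Matrix (Fin n) (Fin n) F).BlockTriangular id := Iff.rfl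

theorem mem_Psl {a : Fin n → ℕ} {g : SpecialLinearGroup (Fin n) F} :
    g ∈ Psl n F a ↔ (g : Matrix (Fin n) (Fin n) F).BlockTriangular (Cfsg.compLabel a) := Iff.rfl

theorem mem_Bsl_iff {g : SpecialLinearGroup (Fin n) F} :
    g ∈ Bsl n F ↔ ∀ i j : Fin n, j < i → (g : Matrix (Fin n) (Fin n) F) i j = 0 := by
  rw [mem_Bsl]
  constructor
  · intro h i j hij
    exact h hij
  · intro h i j hij
    exact h i j hij

theorem diag_mul_of_upper {A B : Matrix (Fin n) (Fin n) F} (hA : A.BlockTriangular id)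
    (hB : B.BlockTriangular id) (i : Fin n) : (A * B) i i = A i i * B i i := by
  rw [Matrix.mul_apply]
  apply Finset.sum_eq_single i
  · intro k _ hk
    rcases lt_or_gt_of_ne hk with h | h
    · have : A i k = 0 := hA h
      rw [this, zero_mul]
    · have : B k i = 0 := hB h
      rw [this, mul_zero]
  · intro h
    exact absurd (Finset.mem_univ i) h

variable (n F)

/-- upper unitriangular matrices of `SL_n(F)` -/
def Usl : Subgroup (SpecialLinearGroup (Fin n) F) where
  carrier := {g : SpecialLinearGroup (Fin n) F |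
    (g : Matrix (Fin n) (Fin n) F).BlockTriangular id ∧ ∀ i, (g : Matrix (Fin n) (Fin n) F) i i = 1}
  mul_mem' := by
    intro a b ha hb
    refine ⟨(Bsl n F).mul_mem (x := a) (y := b) ha.1 hb.1, fun i => ?_⟩
    change ((a * b : SpecialLinearGroup (Fin n) F) : Matrix (Fin n) (Fin n) F) i i = 1
    rw [Matrix.SpecialLinearGroup.coe_mul, diag_mul_of_upper ha.1 hb.1, ha.2, hb.2, mul_one]
  one_mem' := by
    refine ⟨(Bsl n F).one_mem, fun i => ?_⟩
    simp
  inv_mem' := by
    intro a ha
    have h1 : (a⁻¹ : SpecialLinearGroup (Fin n) F) ∈ Bsl n F := (Bsl n F).inv_mem (x := a) ha.1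
    refine ⟨h1, fun i => ?_⟩
    have h2 := diag_mul_of_upper ha.1 (mem_Bsl.mp h1) i
    have h3 : (a : Matrix (Fin n) (Fin n) F) * ((a⁻¹ : SpecialLinearGroup (Fin n) F) : Matrix (Fin n) (Fin n) F)
        = 1 := by
      rw [← Matrix.SpecialLinearGroup.coe_mul, mul_inv_cancel, Matrix.SpecialLinearGroup.coe_one]
    rw [h3, Matrix.one_apply_eq, ha.2, one_mul] at h2
    exact h2.symm

/-- diagonal matrices of `SL_n(F)` -/
def Tsl : Subgroup (SpecialLinearGroup (Fin n) F) where
  carrier := {g : SpecialLinearGroup (Fin n) F |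
    ∀ i j : Fin n, i ≠ j → (g : Matrix (Fin n) (Fin n) F) i j = 0}
  mul_mem' := by
    intro a b ha hb i j hij
    change ((a * b : SpecialLinearGroup (Fin n) F) : Matrix (Fin n) (Fin n) F) i j = 0
    rw [Matrix.SpecialLinearGroup.coe_mul, Matrix.mul_apply]
    apply Finset.sum_eq_zero
    intro k _
    by_cases hik : i = k
    · subst hik
      rw [hb i j hij, mul_zero]
    · rw [ha i k hik, zero_mul]
  one_mem' := by
    intro i j hij
    simp [hij]
  inv_mem' := by
    intro a ha i j hij
    have hup : (a : Matrix (Fin n) (Fin n) F).BlockTriangular id := fun i j h => ha i j (ne_of_gt h)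
    have hlo : (a : Matrix (Fin n) (Fin n) F).BlockTriangular OrderDual.toDual :=
      fun i j h => ha i j (ne_of_lt (OrderDual.toDual_lt_toDual.mp h))
    have hinv : ((a⁻¹ : SpecialLinearGroup (Fin n) F) : Matrix (Fin n) (Fin n) F) =
        (a : Matrix (Fin n) (Fin n) F)⁻¹ := by
      rw [Matrix.SpecialLinearGroup.coe_inv, Matrix.inv_def, a.det_coe]
      simp
    have hdet : IsUnit (a : Matrix (Fin n) (Fin n) F).det := by rw [a.det_coe]; exact isUnit_one
    have : Invertible (a : Matrix (Fin n) (Fin n) F) :=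
      Matrix.invertibleOfIsUnitDet _ hdet
    change ((a⁻¹ : SpecialLinearGroup (Fin n) F) : Matrix (Fin n) (Fin n) F) i j = 0
    rw [hinv]
    rcases lt_or_gt_of_ne hij with h | h
    · exact Matrix.blockTriangular_inv_of_blockTriangular hlo (OrderDual.toDual_lt_toDual.mpr h)
    · exact Matrix.blockTriangular_inv_of_blockTriangular hup h

variable {n F}

theorem mem_Usl {g : SpecialLinearGroup (Fin n) F} :
    g ∈ Usl n F ↔ (g : Matrix (Fin n) (Fin n) F).BlockTriangular id ∧
      ∀ i, (g : Matrix (Fin n) (Fin n) F) i i = 1 := Iff.rfl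

theorem mem_Tsl {g : SpecialLinearGroup (Fin n) F} :
    g ∈ Tsl n F ↔ ∀ i j : Fin n, i ≠ j → (g : Matrix (Fin n) (Fin n) F) i j = 0 := Iff.rfl

theorem Usl_le_Bsl : Usl n F ≤ Bsl n F := fun _ h => h.1

theorem Tsl_le_Bsl : Tsl n F ≤ Bsl n F := fun _ h => mem_Bsl.mpr (fun i j hij => h i j (ne_of_gt hij))

/-- the index `k` of `Fin n` -/
abbrev fi (k : ℕ) (hk : k + 1 < n) : Fin n := ⟨k, Nat.lt_of_succ_lt hk⟩

/-- the index `k + 1` of `Fin n` -/
abbrev fs (k : ℕ) (hk : k + 1 < n) : Fin n := ⟨k + 1, hk⟩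

theorem fi_ne_fs (k : ℕ) (hk : k + 1 < n) : fi k hk ≠ fs k hk := by
  intro h
  have := congrArg Fin.val h
  simp at this

/-- the simple root element `x_k(a) = 1 + a E_{k,k+1}` -/
noncomputable def xs (k : ℕ) (hk : k + 1 < n) (a : F) : SpecialLinearGroup (Fin n) F :=
  Cfsg.Agent.Lib.Helper25.SLCC.T (fi k hk) (fs k hk) a

/-- the negative simple root element `1 + a E_{k+1,k}` -/
noncomputable def xm (k : ℕ) (hk : k + 1 < n) (a : F) : SpecialLinearGroup (Fin n) F :=
  Cfsg.Agent.Lib.Helper25.SLCC.T (fs k hk) (fi k hk) a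

/-- the representative `n_k = x_k(1) x_{-k}(-1) x_k(1)` of the simple reflection `(k k+1)`:
the identity outside rows and columns `k, k+1`, where it is `[[0, 1], [-1, 0]]` -/
noncomputable def ns (k : ℕ) (hk : k + 1 < n) : SpecialLinearGroup (Fin n) F :=
  xs k hk 1 * xm k hk (-1) * xs k hk 1

/-- the sum of the entries on the first superdiagonal -/
def superSum (u : Matrix (Fin n) (Fin n) F) : F :=
  ∑ i : Fin n, if h : i.val + 1 < n then u i ⟨i.val + 1, h⟩ else 0

theorem xs_coe (k : ℕ) (hk : k + 1 < n) (a : F) :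
    ((xs k hk a : SpecialLinearGroup (Fin n) F) : Matrix (Fin n) (Fin n) F) =
      1 + Matrix.single (fi k hk) (fs k hk) a :=
  Cfsg.Agent.Lib.Helper25.SLCC.T_coe (fi_ne_fs k hk) a

theorem xm_coe (k : ℕ) (hk : k + 1 < n) (a : F) :
    ((xm k hk a : SpecialLinearGroup (Fin n) F) : Matrix (Fin n) (Fin n) F) =
      1 + Matrix.single (fs k hk) (fi k hk) a :=
  Cfsg.Agent.Lib.Helper25.SLCC.T_coe (fi_ne_fs k hk).symm a

end Cfsg.Agent.Lib.Helper24.SLB
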