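import Mathlib
import Cfsg.Agent.Lib.Helper24.SLB.Defs
import Cfsg.Agent.Lib.Helper15.UnipSL
import Cfsg.Agent.Lib.Helper11.Clifford
import Cfsg.Agent.Lib.Helper2.Orthogonality
import Cfsg.Agent.S2424
import Cfsg.Agent.Lib.Helper16.SLBD
import Cfsg.Agent.Lib.Helper20.SLBE
import Cfsg.Agent.Lib.Helper3.SLBF
import Cfsg.Agent.Lib.Helper22.SLBG
import Cfsg.Agent.Lib.Helper3.SLBH
import Cfsg.Agent.Lib.Helper16.SLBI
import Cfsg.Agent.Lib.Helper27.SLBJ
import Cfsg.Agent.Lib.Helper27.SLBK
import Cfsg.Agent.Lib.Helper4.SLBL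

set_option autoImplicit false

/-! S4538: an irreducible character of `SL_n(F)` vanishing on the `p`-singular elements is the
Steinberg character (assembly of the farm leaves [D]..[L]; helper24). -/

namespace Cfsg.Agent.Lib.Helper24.SLB

open Matrix
open scoped ComplexConjugate
open Cfsg.Agent.Lib.Helper2 Cfsg.Agent.Lib.Helper11 Cfsg.Agent.Lib.Helper15

variable {n : ℕ} {F : Type*} [Field F] [Fintype F]

/-- propagation of the type "fixed" along the Dynkin diagram -/
theorem all_fixed_of_one {d : ℕ}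
    (ρ : Representation ℂ (SpecialLinearGroup (Fin n) F) (Fin d → ℂ))
    (y : Fin d → ℂ)
    (hdich : ∀ (k : ℕ) (hk : k + 1 < n),
      ρ (ns k hk) y = y ∨ ∑ a : F, ρ (xs k hk a * ns k hk) y = -y)
    (hbraid : ∀ (k : ℕ) (hk : k + 2 < n),
      ¬ (ρ (ns k (Nat.lt_of_succ_lt hk)) y = y ∧
          ∑ a : F, ρ (xs (k + 1) hk a * ns (k + 1) hk) y = -y) ∧
      ¬ (ρ (ns (k + 1) hk) y = y ∧
          ∑ a : F, ρ (xs k (Nat.lt_of_succ_lt hk) a * ns k (Nat.lt_of_succ_lt hk)) y = -y))
    (k₀ : ℕ) (hk₀ : k₀ + 1 < n) (h₀ : ρ (ns k₀ hk₀) y = y) :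
    ∀ (k : ℕ) (hk : k + 1 < n), ρ (ns k hk) y = y := by
  have up : ∀ (k : ℕ) (hk : k + 2 < n), ρ (ns k (Nat.lt_of_succ_lt hk)) y = y →
      ρ (ns (k + 1) hk) y = y := by
    intro k hk h
    rcases hdich (k + 1) hk with h' | h'
    · exact h'
    · exact absurd ⟨h, h'⟩ (hbraid k hk).1
  have down : ∀ (k : ℕ) (hk : k + 2 < n), ρ (ns (k + 1) hk) y = y →
      ρ (ns k (Nat.lt_of_succ_lt hk)) y = y := by
    intro k hk h
    rcases hdich k (Nat.lt_of_succ_lt hk) with h' | h'
    · exact h'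
    · exact absurd ⟨h, h'⟩ (hbraid k hk).2
  have hup : ∀ (j : ℕ) (hj : k₀ + j + 1 < n), ρ (ns (k₀ + j) hj) y = y := by
    intro j
    induction j with
    | zero => intro hj; exact h₀
    | succ j ih =>
      intro hj
      exact up (k₀ + j) hj (ih (Nat.lt_of_succ_lt hj))
  have hdown : ∀ (j : ℕ) (hj : j ≤ k₀), ρ (ns (k₀ - j) (by omega)) y = y := by
    intro j
    induction j with
    | zero => intro hj; exact h₀
    | succ j ih =>
      intro hj
      have h1 := ih (by omega)
      have e : k₀ - j = (k₀ - (j + 1)) + 1 := by omega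
      have h2 : ρ (ns ((k₀ - (j + 1)) + 1) (by omega)) y = y := by
        have : ∀ (m : ℕ) (hm : m + 1 < n), m = k₀ - j → ρ (ns m hm) y = y := by
          intro m hm hmeq
          subst hmeq
          exact h1
        exact this _ _ e.symm
      exact down (k₀ - (j + 1)) (by omega) h2
  intro k hk
  rcases Nat.le_total k₀ k with h | h
  · obtain ⟨j, rfl⟩ := Nat.exists_eq_add_of_le h
    exact hup j hk
  · have := hdown (k₀ - k) (by omega)
    have e : k₀ - (k₀ - k) = k := by omega
    have h3 : ∀ (m : ℕ) (hm : m + 1 < n), m = k → ρ (ns m hm) y = y → ρ (ns k hk) y = y := by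
      intro m hm hmeq hh
      subst hmeq
      exact hh
    exact h3 _ _ e this

/-- **BT**: an irreducible character of `SL_n(F)` vanishing on the `p`-singular elements is the
Steinberg character. -/
theorem irr_eq_steinberg [Fintype (SpecialLinearGroup (Fin n) F)] (hn : 2 ≤ n) (p : ℕ)
    [Fact p.Prime] [CharP F p]
    (χ : SpecialLinearGroup (Fin n) F → ℂ) (hχ : Cfsg.IsIrrCharacter (SpecialLinearGroup (Fin n) F) χ)
    (hvan : ∀ g : SpecialLinearGroup (Fin n) F, p ∣ orderOf g → χ g = 0) :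
    χ = UnipSL.unipSL n F (fun _ => 1) := by
  classical
  have hχ' := hχ
  obtain ⟨d, ρ, hρ, rfl⟩ := hχ
  have hvanU : ∀ u ∈ Usl n F, u ≠ 1 → ρ.character u = 0 := by
    intro u hu hu1
    apply hvan
    obtain ⟨k, hk⟩ := (IsPGroup.iff_orderOf.mp (Usl_isPGroup (n := n) (F := F) p)) ⟨u, hu⟩
    rw [Subgroup.orderOf_mk] at hk
    rw [hk]
    cases k with
    | zero =>
      exfalso
      apply hu1
      rw [pow_zero] at hk
      exact orderOf_eq_one_iff.mp hk
    | succ k => exact dvd_pow_self p (Nat.succ_ne_zero k)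
  obtain ⟨y, hy0, hyU, hline, hd⟩ := exists_U_fixed_line ρ hρ hvanU
  have hT : ∀ t ∈ Tsl n F, ∃ c : ℂ, ρ t y = c • y := by
    intro t ht
    apply hline
    intro u hu
    have h1 := hyU (t⁻¹ * u * t) (Tsl_normalizes_Usl t ht u hu)
    have e : u * t = t * (t⁻¹ * u * t) := by group
    calc ρ u (ρ t y) = ρ (u * t) y := by rw [map_mul]; rfl
      _ = ρ (t * (t⁻¹ * u * t)) y := by rw [e]
      _ = ρ t (ρ (t⁻¹ * u * t) y) := by rw [map_mul]; rfl
      _ = ρ t y := by rw [h1]
  have hinv := fun (k : ℕ) (hk : k + 1 < n) => torus_conj_fixed ρ y hy0 hyU hline k hk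
  have hTfix : ∀ t ∈ Tsl n F, ρ t y = y := by
    rcases Nat.lt_or_ge n 3 with h3 | h3
    · have hn2 : n = 2 := by omega
      exact torus_fixed_of_two hn2 ρ hρ hd y hy0 hyU hline
    · exact torus_fixed_of_three_le h3 ρ y hy0 hT hinv
  have hB : ∀ b ∈ Bsl n F, ρ b y = y := by
    intro b hb
    obtain ⟨t, ht, u, hu, rfl⟩ := Bsl_eq_mul b hb
    rw [map_mul, Module.End.mul_apply, hyU u hu, hTfix t ht]
  have hdich := fun (k : ℕ) (hk : k + 1 < n) => reflection_dichotomy ρ y hy0 hB hline k hk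
  have hbraid := fun (k : ℕ) (hk : k + 2 < n) => braid_exclusion ρ y hy0 hB k hk
  have hneg : ∀ (k : ℕ) (hk : k + 1 < n), ∑ a : F, ρ (xs k hk a * ns k hk) y = -y := by
    by_contra hcon
    push Not at hcon
    obtain ⟨k₀, hk₀, hk₀'⟩ := hcon
    have hfix₀ : ρ (ns k₀ hk₀) y = y := (hdich k₀ hk₀).resolve_right hk₀'
    have hall := all_fixed_of_one ρ y hdich hbraid k₀ hk₀ hfix₀
    obtain ⟨k, hk, hne⟩ := exists_ns_not_fixed hn ρ hρ hvanU y hy0 hB
    exact hne (hall k hk)
  have hq : ((Fintype.card F : ℂ) + 1) ≠ 0 := by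
    have : (0 : ℝ) < (Fintype.card F : ℝ) + 1 := by positivity
    exact_mod_cast this.ne'
  have hB1 : Cfsg.classInner ρ.character (UnipSL.fpcSL n F (fun _ => 1)) = 1 := by
    apply classInner_fpcSL_eq_one _ ρ y hy0
    · intro g hg
      rw [Psl_ones] at hg
      exact hB g hg
    · intro v hv
      apply hline
      intro u hu
      apply hv
      rw [Psl_ones]
      exact Usl_le_Bsl hu
  have hB0 : ∀ a : Fin n → ℕ, ∑ i, a i = n → a ≠ (fun _ => 1) →
      Cfsg.classInner ρ.character (UnipSL.fpcSL n F a) = 0 := by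
    intro a hsum ha
    obtain ⟨hBa, k, hk, hns⟩ := exists_ns_mem_Psl (F := F) a hsum ha
    apply classInner_fpcSL_eq_zero
    intro v hv
    obtain ⟨c, rfl⟩ := hline v (fun u hu => hv u (hBa (Usl_le_Bsl hu)))
    by_contra hc0
    have hc : c ≠ 0 := fun h => hc0 (by rw [h, zero_smul])
    have h1 : ρ (ns k hk) y = y := by
      have := hv _ hns
      rw [map_smul] at this
      exact smul_right_injective _ hc this
    have h2 := hneg k hk
    have h3 : ∑ a : F, ρ (xs k hk a * ns k hk) y = (Fintype.card F : ℂ) • y := by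
      have : ∀ a : F, ρ (xs k hk a * ns k hk) y = y := by
        intro a
        rw [map_mul, Module.End.mul_apply, h1, hyU _ (xs_mem_Usl k hk a)]
      rw [Finset.sum_congr rfl (fun a _ => this a), Finset.sum_const, Finset.card_univ,
        Nat.cast_smul_eq_nsmul]
    rw [h3] at h2
    have h4 : ((Fintype.card F : ℂ) + 1) • y = 0 := by
      rw [add_smul, one_smul, h2, neg_add_cancel]
    rcases smul_eq_zero.mp h4 with h5 | h5
    · exact hq h5
    · exact hy0 h5
  have key : Cfsg.classInner ρ.character (UnipSL.unipSL n F (fun _ => 1)) = 1 := by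
    rw [UnipSL.unipSL_eq_sum, classInner_sum_right]
    rw [Finset.sum_eq_single (1 : Equiv.Perm (Fin n))]
    · rw [classInner_smul_right]
      have h1 : (∀ i : Fin n, (((1 : Equiv.Perm (Fin n)) i : Fin n) : ℕ) ≤ 1 + (i : ℕ)) := by
        intro i
        simp
      rw [if_pos h1]
      have h2 : (fun i : Fin n => 1 + (i : ℕ) - (((1 : Equiv.Perm (Fin n)) i : Fin n) : ℕ)) =
          fun _ => 1 := by
        funext i
        simp
      rw [h2, hB1]
      simp
    · intro κ _ hκ
      rw [classInner_smul_right]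
      by_cases hc : ∀ i : Fin n, ((κ i : Fin n) : ℕ) ≤ 1 + (i : ℕ)
      · rw [if_pos hc, hB0, mul_zero]
        · have := Cfsg.Agent.S2424.sum_sub_perm (fun _ : Fin n => 1) κ hc
          rw [this]
          simp
        · intro hEq
          apply hκ
          ext i
          have h5 : 1 + (i : ℕ) - ((κ i : Fin n) : ℕ) = 1 := congrFun hEq i
          have h6 := hc i
          have : ((κ i : Fin n) : ℕ) = (i : ℕ) := by omega
          simp [this]
      · rw [if_neg hc, map_zero, zero_mul]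
    · intro h
      exact absurd (Finset.mem_univ _) h
  apply eq_of_irr_of_classInner_ne_zero hχ' (UnipSL.isIrr_unipSL (F := F) (fun _ : Fin n => 1) monotone_const (by simp))
  rw [key]
  exact one_ne_zero

end Cfsg.Agent.Lib.Helper24.SLB
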