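import Mathlib
import Cfsg.Agent.Lib.Helper24.Defect
import Cfsg.Agent.Lib.Helper24.Loc
import Cfsg.Agent.Lib.Helper7.DefectOrder
import Cfsg.Agent.S0973

set_option autoImplicit false

/-! S4538 leaf [P2]: a block whose defect group `D` has all `p`-regular elements of `C_G(D)`
central in `G` has full defect. -/

namespace Cfsg.Agent.Lib.Helper24.SLB

open Cfsg.Agent.Lib.Helper24 Cfsg.Agent.Lib.Helper7

/-- a `p`-regular element of `D C_G(D)`, `D` a `p`-group, centralizes `D` -/
theorem mem_centralizer_of_pregular {G : Type*} [Group G] [Finite G] (p : ℕ) [Fact p.Prime]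
    (D : Subgroup G) (hD : IsPGroup p D) (h : G)
    (hh : h ∈ D ⊔ Subgroup.centralizer (D : Set G)) (hreg : ¬ p ∣ orderOf h) :
    h ∈ Subgroup.centralizer (D : Set G) := by
  classical
  set N := Subgroup.normalizer (D : Set G) with hN
  have hDN : D ≤ N := Subgroup.le_normalizer
  have hCN : Subgroup.centralizer (D : Set G) ≤ N := Subgroup.centralizer_le_normalizer _
  have hhN : h ∈ N := (sup_le hDN hCN) hh
  have : (D.subgroupOf N).Normal := Subgroup.normal_in_normalizer
  let φ : N →* MulAut (D.subgroupOf N) := MulAut.conjNormal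
  set h' : N := ⟨h, hhN⟩ with hh'
  have hmem : h' ∈ D.subgroupOf N ⊔ (Subgroup.centralizer (D : Set G)).subgroupOf N := by
    rw [← Subgroup.subgroupOf_sup hDN hCN]
    exact hh
  have hker : Subgroup.map φ ((Subgroup.centralizer (D : Set G)).subgroupOf N) = ⊥ := by
    rw [eq_bot_iff]
    rintro _ ⟨c, hc, rfl⟩
    rw [Subgroup.mem_bot]
    ext x
    have hc' : (c : G) ∈ Subgroup.centralizer (D : Set G) := hc
    have hx : (x : G) ∈ D := x.2
    have := (Subgroup.mem_centralizer_iff.mp hc') (x : G) hx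
    change ((c * (x : N) * c⁻¹ : N) : G) = ((x : N) : G)
    push_cast
    rw [← this]
    group
  have hφ : φ h' ∈ Subgroup.map φ (D.subgroupOf N) := by
    have h1 : φ h' ∈ Subgroup.map φ (D.subgroupOf N ⊔ (Subgroup.centralizer (D : Set G)).subgroupOf N) :=
      Subgroup.mem_map_of_mem φ hmem
    rw [Subgroup.map_sup, hker, sup_bot_eq] at h1
    exact h1
  have hDp : IsPGroup p (D.subgroupOf N) := hD.comap_subtype
  have hPp : IsPGroup p (Subgroup.map φ (D.subgroupOf N)) := hDp.map φ
  obtain ⟨k, hk⟩ := (IsPGroup.iff_orderOf.mp hPp) ⟨φ h', hφ⟩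
  rw [Subgroup.orderOf_mk] at hk
  have hdvd : orderOf (φ h') ∣ orderOf h := by
    have : orderOf h' = orderOf h := by
      rw [hh', Subgroup.orderOf_mk]
    rw [← this]
    exact orderOf_map_dvd φ h'
  have hk0 : k = 0 := by
    by_contra hk0
    apply hreg
    apply dvd_trans _ hdvd
    rw [hk]
    exact dvd_pow_self p hk0
  rw [hk0, pow_zero, orderOf_eq_one_iff] at hk
  rw [Subgroup.mem_centralizer_iff]
  intro x hx
  have := congrArg (fun f : MulAut (D.subgroupOf N) => ((f ⟨⟨x, hDN hx⟩, hx⟩ : D.subgroupOf N) : N)) hk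
  simp only [MulAut.one_apply] at this
  have e : (((φ h') ⟨⟨x, hDN hx⟩, hx⟩ : D.subgroupOf N) : N) = h' * ⟨x, hDN hx⟩ * h'⁻¹ := rfl
  rw [e] at this
  have h2 := congrArg (fun z : N => (z : G)) this
  simp only [Subgroup.coe_mul, Subgroup.coe_inv] at h2
  -- h * x * h⁻¹ = x
  calc x * h = (h * x * h⁻¹) * h := by rw [h2]
    _ = h * x := by group

/-- **[P2]** a block whose defect group `D` has all `p`-regular elements of `C_G(D)` central in `G`
has full defect. -/
theorem blockDefect_full_of_central {G : Type*} [Group G] [Finite G] (p : ℕ) [Fact p.Prime]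
    (M : Ideal Cfsg.AlgInt) (hM : Cfsg.IsPModular p M) (B : Set (Cfsg.IrrCharacter G))
    (hB : Cfsg.IsPBlock M B) (D : Subgroup G) (hD : Cfsg.IsDefectGroup p M B D)
    (hc : ∀ g ∈ Subgroup.centralizer (D : Set G), ¬ p ∣ orderOf g → g ∈ Subgroup.center G) :
    Cfsg.blockDefect p B = (Nat.card G).factorization p := by
  classical
  letI : Fintype G := Fintype.ofFinite G
  have hD' := hD
  obtain ⟨g, hg, P, hDP⟩ := hD
  have hDp : IsPGroup p D := by
    rw [hDP]
    exact P.isPGroup'.map _
  have hreg := isDefectClass_regular hM hB hg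
  rw [blockDefect_eq_of_isDefectClass hM B hB g hg]
  suffices hgc : g ∈ Subgroup.center G by
    have : Subgroup.centralizer ({g} : Set G) = ⊤ := by
      rw [Subgroup.centralizer_eq_top_iff_subset]
      intro x hx
      rw [Set.mem_singleton_iff] at hx
      rw [hx]
      exact hgc
    rw [this, Subgroup.card_top]
  obtain ⟨⟨b, -, hind⟩, -⟩ := Cfsg.Agent.S0973.result p M hM B hB D hD'
  obtain ⟨hbblock, -, hcong⟩ := hind
  obtain ⟨ξ, hξ⟩ := isPBlock_nonempty hM hbblock
  obtain ⟨χ, hχ⟩ := isPBlock_nonempty hM hB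
  have h1 := hcong ξ hξ χ hχ g
  have h2 := hg.2.2 χ hχ
  have h3 : Cfsg.inducedCentralChar (D ⊔ Subgroup.centralizer (D : Set G)) (ξ : _ → ℂ) g ≠ 0 := by
    intro h0
    rw [h0, zero_sub] at h1
    apply h2
    have := memLocalIdeal_neg h1
    rwa [neg_neg] at this
  have h4 : ∃ h : ↥(D ⊔ Subgroup.centralizer (D : Set G)), IsConj g (h : G) := by
    by_contra hno
    push Not at hno
    apply h3
    unfold Cfsg.inducedCentralChar
    apply finsum_mem_eq_zero_of_forall_eq_zero
    intro h hh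
    exact absurd hh (hno h)
  obtain ⟨h, hh⟩ := h4
  have hord : orderOf (h : G) = orderOf g := by
    obtain ⟨c, hc'⟩ := isConj_iff.mp hh
    rw [← hc']
    exact (MulEquiv.orderOf_eq (MulAut.conj c) g)
  have hhreg : ¬ p ∣ orderOf (h : G) := by rw [hord]; exact hreg
  have hhC := mem_centralizer_of_pregular p D hDp (h : G) h.2 hhreg
  have hhZ := hc (h : G) hhC hhreg
  obtain ⟨c, hc'⟩ := isConj_iff.mp hh
  -- c * g * c⁻¹ = h central ⇒ g = h
  have : g = (h : G) := by
    have h5 : c⁻¹ * (h : G) * c = g := by rw [← hc']; group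
    rw [← h5]
    have := (Subgroup.mem_center_iff.mp hhZ) c⁻¹
    calc c⁻¹ * (h : G) * c = (h : G) * c⁻¹ * c := by rw [this]
      _ = (h : G) := by group
  rw [this]
  exact hhZ

end Cfsg.Agent.Lib.Helper24.SLB
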