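import Cfsg.Agent.Lib.Helper24.SLB.Asm
import Cfsg.Agent.Lib.Helper24.SLB.P2
import Cfsg.Agent.Lib.Helper24.SLB.Q
import Cfsg.Agent.Lib.Helper4.SLBP1
import Cfsg.Agent.Lib.Helper22.SLBR
import Cfsg.Agent.Lib.Helper24.Defect
import Cfsg.Agent.Lib.Helper7.DefectOrder
import Cfsg.Agent.Lib.Helper7.NormalDefect
import Cfsg.Agent.S0914
import Cfsg.Agent.S0955

set_option autoImplicit false

/-! S4538: the blocks of `SL_n(F)` in the defining characteristic: exactly one block of defect zero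
(the block of the Steinberg character), every other block of full defect (helper24; farm leaves by
helper2, 3, 4, 6, 9, 12, 16, 20, 22, 27). -/

namespace Cfsg.Agent.Lib.Helper24.SLB

open Matrix
open Cfsg.Agent.Lib.Helper2 Cfsg.Agent.Lib.Helper11 Cfsg.Agent.Lib.Helper15 Cfsg.Agent.Lib.Helper7
  Cfsg.Agent.Lib.Helper24

theorem main_S4538 {F : Type*} [Field F] [Fintype F] (n : ℕ) (hn : 2 ≤ n) (p : ℕ) [Fact p.Prime]
    [CharP F p] (M : Ideal Cfsg.AlgInt) (hM : Cfsg.IsPModular p M) :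
    Nat.card {B : Set (Cfsg.IrrCharacter (SpecialLinearGroup (Fin n) F)) //
      Cfsg.IsPBlock M B ∧ Cfsg.blockDefect p B = 0} = 1 ∧
    ∀ B : Set (Cfsg.IrrCharacter (SpecialLinearGroup (Fin n) F)), Cfsg.IsPBlock M B →
      Cfsg.blockDefect p B = 0 ∨
        Cfsg.blockDefect p B = (Nat.card (SpecialLinearGroup (Fin n) F)).factorization p := by
  classical
  letI : Fintype (SpecialLinearGroup (Fin n) F) := Fintype.ofFinite _
  set St : Cfsg.IrrCharacter (SpecialLinearGroup (Fin n) F) :=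
    ⟨UnipSL.unipSL n F (fun _ => 1),
      UnipSL.isIrr_unipSL (F := F) (fun _ : Fin n => 1) monotone_const (by simp)⟩ with hSt
  have hnd : ¬ p ∣ Nat.card (SpecialLinearGroup (Fin n) F) /
      Cfsg.charDegree (St : SpecialLinearGroup (Fin n) F → ℂ) :=
    steinberg_not_dvd (n := n) (F := F) p hn
  have hblock : Cfsg.blockOf M (St : _ → ℂ) = {St} := (Cfsg.Agent.S0914.result p M hM St).mp hnd
  have hB₀ : Cfsg.IsPBlock M ({St} : Set (Cfsg.IrrCharacter (SpecialLinearGroup (Fin n) F))) :=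
    ⟨St, hblock.symm⟩
  have hd₀ : Cfsg.blockDefect p ({St} : Set (Cfsg.IrrCharacter (SpecialLinearGroup (Fin n) F))) = 0 :=
    blockDefect_singleton_zero p St hnd
  have huniq : ∀ B : Set (Cfsg.IrrCharacter (SpecialLinearGroup (Fin n) F)),
      Cfsg.IsPBlock M B → Cfsg.blockDefect p B = 0 → B = {St} := by
    intro B hB h0
    obtain ⟨χ₀, rfl⟩ := hB
    have hmem : χ₀ ∈ Cfsg.blockOf M (χ₀ : _ → ℂ) := mem_blockOf_self hM χ₀
    have hnd₀ := not_dvd_of_blockDefect_zero p _ h0 χ₀ hmem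
    have hvan := irr_eq_zero_of_singular_of_not_dvd hM χ₀ hnd₀
    have heq : (χ₀ : _ → ℂ) = UnipSL.unipSL n F (fun _ => 1) :=
      irr_eq_steinberg hn p _ χ₀.2 hvan
    have : χ₀ = St := Subtype.ext heq
    rw [this, hblock]
  refine ⟨?_, ?_⟩
  · rw [Nat.card_eq_one_iff_unique]
    refine ⟨⟨?_⟩, ⟨⟨{St}, hB₀, hd₀⟩⟩⟩
    rintro ⟨B, hB, h0⟩ ⟨B', hB', h0'⟩
    apply Subtype.ext
    change B = B'
    rw [huniq B hB h0, huniq B' hB' h0']
  · intro B hB
    obtain ⟨D, hD⟩ := exists_isDefectGroup hM B hB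
    have hcard := card_of_isDefectGroup hM B hB D hD
    by_cases hbot : D = ⊥
    · left
      rw [hbot, Subgroup.card_bot] at hcard
      by_contra h0
      have hp1 : 1 < p := (Fact.out : p.Prime).one_lt
      have : 1 < p ^ Cfsg.blockDefect p B := Nat.one_lt_pow h0 hp1
      omega
    · right
      have hDp : IsPGroup p D := IsPGroup.of_card hcard
      have hcore := Cfsg.Agent.S0955.result p M hM B hB D hD
      have hc := pregular_centralizer_central p D hDp hbot hcore
      exact blockDefect_full_of_central p M hM B hB D hD hc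

end Cfsg.Agent.Lib.Helper24.SLB
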