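import Mathlib
import Cfsg.Agent.Lib.Helper24.Defect
import Cfsg.Agent.Lib.Helper24.Knorr
import Cfsg.Agent.Lib.Helper7.DefectOrder

set_option autoImplicit false

namespace Cfsg.Agent.Lib.Helper24.SLB

open Cfsg.Agent.Lib.Helper24 Cfsg.Agent.Lib.Helper7

/-- **[S1]** (generic) a block has full defect iff a given Sylow subgroup is a defect group -/
theorem isDefectGroup_sylow_iff {G : Type*} [Group G] [Finite G] (p : ℕ) [Fact p.Prime]
    (M : Ideal Cfsg.AlgInt) (hM : Cfsg.IsPModular p M) (P : Sylow p G)
    (B : Set (Cfsg.IrrCharacter G)) (hB : Cfsg.IsPBlock M B) :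
    Cfsg.IsDefectGroup p M B (P : Subgroup G) ↔
      Cfsg.blockDefect p B = (Nat.card G).factorization p := by
  classical
  letI : Fintype G := Fintype.ofFinite G
  have hp : p.Prime := Fact.out
  constructor
  · intro hD
    have h1 := card_of_isDefectGroup hM B hB _ hD
    have h2 := P.card_eq_multiplicity
    rw [h2] at h1
    exact (Nat.pow_right_injective hp.two_le h1).symm
  · intro h
    obtain ⟨D, hD⟩ := exists_isDefectGroup hM B hB
    have h1 := card_of_isDefectGroup hM B hB D hD
    rw [h] at h1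
    have hDp : IsPGroup p D := IsPGroup.of_card h1
    obtain ⟨Q, hDQ⟩ := hDp.exists_le_sylow
    have hDQ' : D = Q := Subgroup.eq_of_le_of_card_ge hDQ (by rw [Q.card_eq_multiplicity, h1])
    obtain ⟨x, hx⟩ := MulAction.exists_smul_eq G Q P
    have h3 := isDefectGroup_map_conj (M := M) hD x
    have h4 : (P : Subgroup G) = D.map (MulAut.conj x).toMonoidHom := by
      rw [← hx, Sylow.coe_subgroup_smul, hDQ']
      rfl
    rw [h4]
    exact h3

end Cfsg.Agent.Lib.Helper24.SLB
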