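import Mathlib
import Cfsg.Agent.Lib.Helper24.SLB.Defs
import Cfsg.Agent.Lib.Helper3.SLCCG1

set_option autoImplicit false

namespace Cfsg.Agent.Lib.Helper24.SLB

open Matrix

/-- **[S3]** the centre of `SL_n(F_p)` has order `gcd(n, p - 1)` -/
theorem card_center_SL_zmod (p : ℕ) [Fact p.Prime] (n : ℕ) (hn : 1 ≤ n) :
    Nat.card (Subgroup.center (SpecialLinearGroup (Fin n) (ZMod p))) = Nat.gcd n (p - 1) := by
  obtain ⟨e⟩ := Cfsg.Agent.Lib.Helper25.SLCC.center_SL_equiv (F := ZMod p) n hn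
  rw [Nat.card_congr e.toEquiv, ZMod.card p]
  have hg : 0 < Nat.gcd n (p - 1) := Nat.gcd_pos_of_pos_left _ hn
  have : NeZero (Nat.gcd n (p - 1)) := ⟨hg.ne'⟩
  have : Nat.card (Multiplicative (ZMod (Nat.gcd n (p - 1)))) = Nat.card (ZMod (Nat.gcd n (p - 1))) :=
    Nat.card_congr Multiplicative.toAdd
  rw [this, Nat.card_eq_fintype_card, ZMod.card]

end Cfsg.Agent.Lib.Helper24.SLB
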