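import Mathlib
import Cfsg.Agent.Lib.Helper24.SLB.Defs

set_option autoImplicit false

namespace Cfsg.Agent.Lib.Helper24.SLB

open Matrix

/-- **[S4]** `p` divides the order of `SL_n(F)` for `n ≥ 2` -/
theorem factorization_card_SL_pos {F : Type*} [Field F] [Fintype F] (n : ℕ) (hn : 2 ≤ n) (p : ℕ)
    [Fact p.Prime] [CharP F p] :
    0 < (Nat.card (SpecialLinearGroup (Fin n) F)).factorization p := by
  classical
  have hp : p.Prime := Fact.out
  have hk : 0 + 1 < n := by omega
  set g : SpecialLinearGroup (Fin n) F := xs 0 hk 1 with hg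
  have hne := fi_ne_fs (n := n) 0 hk
  have hpow : ∀ m : ℕ, g ^ m = xs 0 hk (m : F) := by
    intro m
    induction m with
    | zero =>
      rw [pow_zero, Nat.cast_zero]
      exact (Cfsg.Agent.Lib.Helper25.SLCC.T_zero hne).symm
    | succ m ih =>
      rw [pow_succ, ih, hg]
      unfold xs
      rw [Cfsg.Agent.Lib.Helper25.SLCC.T_add hne, Nat.cast_succ]
  have hgp : g ^ p = 1 := by
    rw [hpow, CharP.cast_eq_zero]
    exact Cfsg.Agent.Lib.Helper25.SLCC.T_zero hne
  have hg1 : g ≠ 1 := by
    intro h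
    have h1 := congrArg (fun x : SpecialLinearGroup (Fin n) F =>
      (x : Matrix (Fin n) (Fin n) F) (fi 0 hk) (fs 0 hk)) h
    simp only [hg, xs_coe, Matrix.SpecialLinearGroup.coe_one, Matrix.add_apply,
      Matrix.one_apply_ne hne, Matrix.single_apply_same, zero_add] at h1
    exact one_ne_zero h1
  have hord : orderOf g = p := orderOf_eq_prime hgp hg1
  have hdvd : p ∣ Nat.card (SpecialLinearGroup (Fin n) F) := by
    rw [← hord]
    exact orderOf_dvd_natCard g
  exact hp.factorization_pos_of_dvd Nat.card_pos.ne' hdvd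

end Cfsg.Agent.Lib.Helper24.SLB
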