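import Cfsg.Agent.Lib.Helper24.SLB.Main
import Cfsg.Agent.Lib.Helper24.SLB.S1
import Cfsg.Agent.Lib.Helper24.SLB.S3
import Cfsg.Agent.Lib.Helper24.SLB.S4
import Cfsg.Agent.Lib.Helper6.SLBS2
import Cfsg.Agent.S0953

set_option autoImplicit false

/-! S2440: `SL_n(F_p)` has `gcd(n, p - 1) + 1` `p`-blocks (S4538 + S0953 + the leaves [S1]..[S4]). -/

namespace Cfsg.Agent.Lib.Helper24.SLB

open Matrix

theorem main_S2440 (p : ℕ) [Fact p.Prime] (n : ℕ) (hn : 2 ≤ n) (M : Ideal Cfsg.AlgInt)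
    (hM : Cfsg.IsPModular p M) :
    Nat.card {B : Set (Cfsg.IrrCharacter (SpecialLinearGroup (Fin n) (ZMod p))) //
      Cfsg.IsPBlock M B} = Nat.gcd n (p - 1) + 1 := by
  classical
  obtain ⟨h1, h2⟩ := main_S4538 (F := ZMod p) n hn p M hM
  obtain ⟨P⟩ : Nonempty (Sylow p (SpecialLinearGroup (Fin n) (ZMod p))) := inferInstance
  have hν := factorization_card_SL_pos (F := ZMod p) n hn p
  set ν := (Nat.card (SpecialLinearGroup (Fin n) (ZMod p))).factorization p with hνdef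
  have h3 := Cfsg.Agent.S0953.result p M hM P
  rw [card_classes_eq_card_center n hn p P, card_center_SL_zmod p n (by omega)] at h3
  -- the two families
  set S : Set (Set (Cfsg.IrrCharacter (SpecialLinearGroup (Fin n) (ZMod p)))) :=
    {B | Cfsg.IsPBlock M B} with hS
  set S₀ : Set (Set (Cfsg.IrrCharacter (SpecialLinearGroup (Fin n) (ZMod p)))) :=
    {B | Cfsg.IsPBlock M B ∧ Cfsg.blockDefect p B = 0} with hS₀
  set S₁ : Set (Set (Cfsg.IrrCharacter (SpecialLinearGroup (Fin n) (ZMod p)))) :=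
    {B | Cfsg.IsPBlock M B ∧ Cfsg.IsDefectGroup p M B (P : Subgroup _)} with hS₁
  have hU : S = S₀ ∪ S₁ := by
    ext B
    constructor
    · intro hB
      rcases h2 B hB with h | h
      · exact Or.inl ⟨hB, h⟩
      · exact Or.inr ⟨hB, (isDefectGroup_sylow_iff p M hM P B hB).mpr h⟩
    · rintro (h | h)
      · exact h.1
      · exact h.1
  have hdisj : Disjoint S₀ S₁ := by
    rw [Set.disjoint_left]
    rintro B ⟨hB, h0⟩ ⟨-, hD⟩
    have := (isDefectGroup_sylow_iff p M hM P B hB).mp hD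
    omega
  have e0 : Nat.card S₀ = 1 := h1
  have e1 : Nat.card S₁ = Nat.gcd n (p - 1) := h3
  change Nat.card S = _
  rw [Nat.card_coe_set_eq, hU, Set.ncard_union_eq hdisj (Set.toFinite _) (Set.toFinite _),
    ← Nat.card_coe_set_eq, ← Nat.card_coe_set_eq, e0, e1, add_comm]

end Cfsg.Agent.Lib.Helper24.SLB
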